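import Mathlib
import Groth.Prelude.Def_DRing2
import Groth.Agent.TorVanLib.Basic
import Groth.Agent.WEField.TorDim
import Groth.Agent.RelPCLib.SmoothAmp

/-!
# Tor dimension along smooth ring maps

A module of tor dimension `≤ d` over `A` has tor dimension `≤ d + n` over a smooth `A`-algebra of
relative dimension `n`.
-/

set_option autoImplicit false
set_option linter.style.haveILetI false
set_option backward.isDefEq.respectTransparency false
set_option linter.unusedSectionVars false

universe u

open CategoryTheory CategoryTheory.Limits MonoidalCategory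
open scoped TensorProduct Polynomial

noncomputable section

namespace Groth.Agent.TorPerLib

/-- Flatness from tor dimension zero. -/
theorem flat_of_zero {A : Type u} [CommRing A] (N : Type u) [AddCommGroup N] [Module A N]
    (h : DRing.HasTorDimLE A 0 N) : Module.Flat A N := by
  obtain ⟨K, F, _, _, _, _, _, f, g, hf, hg, hex⟩ := WEField.exists_free_presentation (A := A) N
  exact WEField.flat_of_torOne K F N f g hf hg hex h

/-- A flat module has tor dimension `≤ d`. -/
theorem torDim_of_flat {A : Type u} [CommRing A] (N : Type u) [AddCommGroup N] [Module A N] [Module.Flat A N]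
    (d : ℕ) : DRing.HasTorDimLE A d N := by
  intro P _ _ p hp
  obtain ⟨q, rfl⟩ := Nat.exists_eq_succ_of_ne_zero (show p ≠ 0 by omega)
  exact TorLib.subsingleton_tor_of_flat N P q

theorem torDim_mono {A : Type u} [CommRing A] (N : Type u) [AddCommGroup N] [Module A N] {d e : ℕ} (h : d ≤ e)
    (hN : DRing.HasTorDimLE A d N) : DRing.HasTorDimLE A e N :=
  fun P _ _ p hp => hN P p (lt_of_le_of_lt h hp)

/-- From the flat case to every tor dimension. -/
theorem torDim_of_flat_case {A B : Type u} [CommRing A] [CommRing B] [Algebra A B] [Module.Flat A B] (e : ℕ)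
    (h0 : ∀ (N : Type u) [AddCommGroup N] [Module A N] [Module B N] [IsScalarTower A B N],
      Module.Flat A N → DRing.HasTorDimLE B e N) :
    ∀ (d : ℕ) (N : Type u) [AddCommGroup N] [Module A N] [Module B N] [IsScalarTower A B N],
      DRing.HasTorDimLE A d N → DRing.HasTorDimLE B (d + e) N := by
  intro d
  induction d with
  | zero =>
    intro N _ _ _ _ h
    exact torDim_mono N (by omega) (h0 N (flat_of_zero N h))
  | succ d ih =>
    intro N _ _ _ _ h
    obtain ⟨K, F, _, _, _, _, _, f, g, hf, hg, hex⟩ := WEField.exists_free_presentation (A := B) N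
    letI : Module A K := Module.compHom K (algebraMap A B)
    haveI : IsScalarTower A B K := IsScalarTower.of_algebraMap_smul fun _ _ => rfl
    letI : Module A F := Module.compHom F (algebraMap A B)
    haveI : IsScalarTower A B F := IsScalarTower.of_algebraMap_smul fun _ _ => rfl
    haveI : Module.Flat A F := Module.Flat.trans A B F
    exact torDim_mono N (show d + e + 1 ≤ d + 1 + e by omega)
      (WEField.torDim_shift_up K F N f g hf hg hex (d + e) (ih K
        (WEField.torDim_shift_down K F N (f.restrictScalars A) (g.restrictScalars A) hf hg hex d h)))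

theorem torDim_polynomial {A : Type u} [CommRing A] (d : ℕ) (N : Type u) [AddCommGroup N] [Module A N]
    [Module A[X] N] [IsScalarTower A A[X] N] (h : DRing.HasTorDimLE A d N) : DRing.HasTorDimLE A[X] (d + 1) N := by
  refine torDim_of_flat_case 1 (fun M _ _ _ _ hM => ?_) d N h
  haveI := hM
  exact WEField.torDim_shift_up (A[X] ⊗[A] M) (A[X] ⊗[A] M) M (RelPCLib.tau M) (RelPCLib.act M)
    (RelPCLib.tau_injective M) (RelPCLib.act_surjective M) (RelPCLib.exact_tau_act M) 0 (torDim_of_flat _ 0)

theorem torDim_mvPolynomial {A : Type u} [CommRing A] :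
    ∀ (n d : ℕ) (N : Type u) [AddCommGroup N] [Module A N] [Module (MvPolynomial (Fin n) A) N]
      [IsScalarTower A (MvPolynomial (Fin n) A) N],
      DRing.HasTorDimLE A d N → DRing.HasTorDimLE (MvPolynomial (Fin n) A) (d + n) N := by
  intro n
  induction n with
  | zero =>
    intro d N _ _ _ _ h
    haveI : Algebra.Etale A (MvPolynomial (Fin 0) A) :=
      Algebra.Etale.of_equiv (MvPolynomial.isEmptyAlgEquiv A (Fin 0)).symm
    exact WEField.torDim_ascend d N h
  | succ n ih =>
    intro d N _ _ _ _ h
    let P := MvPolynomial (Fin n) A
    let e := MvPolynomial.finSuccEquiv A n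
    letI algT : Algebra P[X] (MvPolynomial (Fin (n + 1)) A) := e.symm.toRingEquiv.toRingHom.toAlgebra
    haveI : Algebra.Etale P[X] (MvPolynomial (Fin (n + 1)) A) :=
      Algebra.Etale.of_equiv (AlgEquiv.ofBijective (Algebra.ofId P[X] (MvPolynomial (Fin (n + 1)) A))
        e.symm.bijective)
    letI : Module P[X] N := Module.compHom N e.symm.toRingEquiv.toRingHom
    haveI : IsScalarTower P[X] (MvPolynomial (Fin (n + 1)) A) N := IsScalarTower.of_algebraMap_smul fun _ _ => rfl
    letI : Module P N := Module.compHom N (algebraMap P P[X])
    haveI : IsScalarTower P P[X] N := IsScalarTower.of_algebraMap_smul fun _ _ => rfl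
    haveI : IsScalarTower A P N := IsScalarTower.of_algebraMap_smul fun a x => by
      show e.symm (algebraMap P P[X] (algebraMap A P a)) • x = a • x
      rw [← IsScalarTower.algebraMap_apply A P P[X], e.symm.commutes, algebraMap_smul]
    exact WEField.torDim_ascend (A := P[X]) (d + (n + 1)) N (torDim_polynomial (d + n) N (ih d N h))

/-- Localization of a module preserves a tor-dimension bound checked locally. -/
theorem torDim_local {B : Type u} [CommRing B] (s : Set B) (hs : Ideal.span s = ⊤) :
    ∀ (e : ℕ) (N : Type u) [AddCommGroup N] [Module B N],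
      (∀ r ∈ s, DRing.HasTorDimLE (Localization.Away r) e (LocalizedModule.Away r N)) →
        DRing.HasTorDimLE B e N := by
  intro e
  induction e with
  | zero =>
    intro N _ _ h
    haveI : Module.Flat B N := Module.flat_of_localized_span B N s hs fun r => by
      haveI := flat_of_zero _ (h r.1 r.2)
      exact Module.Flat.trans B (Localization.Away r.1) _
    exact torDim_of_flat N 0
  | succ e ih =>
    intro N _ _ h
    obtain ⟨K, F, _, _, _, _, _, f, g, hf, hg, hex⟩ := WEField.exists_free_presentation (A := B) N
    refine WEField.torDim_shift_up K F N f g hf hg hex e (ih K fun r hr => ?_)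
    let S := Submonoid.powers r
    haveI : Module.Flat (Localization.Away r) (LocalizedModule.Away r F) :=
      Module.Flat.of_isLocalizedModule (Localization.Away r) S (LocalizedModule.mkLinearMap S F)
    exact WEField.torDim_shift_down _ _ (LocalizedModule.Away r N) (LocalizedModule.map S f)
      (LocalizedModule.map S g) (LocalizedModule.map_injective S f hf) (LocalizedModule.map_surjective S g hg)
      (LocalizedModule.map_exact S f g hex) e (h r hr)

/-- The relative dimension of a standard smooth chart is the rank of the differentials. -/
theorem etale_mvPolynomial_chart {A B : Type u} [CommRing A] [CommRing B] [Algebra A B] [Algebra.Smooth A B] (n : ℕ)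
    (hn : ∀ q : PrimeSpectrum B, Module.rankAtStalk (R := B) (KaehlerDifferential A B) q = n) (r : B)
    [Nontrivial (Localization.Away r)] (hstd : Algebra.IsStandardSmooth A (Localization.Away r)) :
    ∃ g : MvPolynomial (Fin n) A →+* Localization.Away r,
      g.comp MvPolynomial.C = algebraMap A (Localization.Away r) ∧ g.Etale := by
  let C := Localization.Away r
  obtain ⟨k, g, hg, hget⟩ := RingHom.IsStandardSmooth.exists_etale_mvPolynomial
    (RingHom.isStandardSmooth_algebraMap.2 hstd)
  suffices hk : k = n by
    subst hk
    exact ⟨g, hg, hget⟩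
  let P := MvPolynomial (Fin k) A
  letI : Algebra P C := g.toAlgebra
  haveI : IsScalarTower A P C := IsScalarTower.of_algebraMap_eq' hg.symm
  haveI : Algebra.Etale P C := hget
  haveI : Algebra.Etale B C := Algebra.Etale.of_isLocalizationAway r
  haveI : Algebra.Smooth A C := inferInstance
  obtain ⟨Q⟩ := (inferInstance : Nonempty (PrimeSpectrum C))
  haveI : Nontrivial A := (algebraMap A C).domain_nontrivial
  haveI : Module.Free P (KaehlerDifferential A P) :=
    Module.Free.of_basis (KaehlerDifferential.mvPolynomialBasis A (Fin k))
  haveI : Module.Finite P (KaehlerDifferential A P) :=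
    Module.Finite.of_basis (KaehlerDifferential.mvPolynomialBasis A (Fin k))
  have k1 : Module.rankAtStalk (R := C) (KaehlerDifferential A C) Q = k := by
    rw [← Module.rankAtStalk_eq_of_equiv (KaehlerDifferential.tensorKaehlerEquivOfFormallyEtale A P C),
      Module.rankAtStalk_baseChange, Module.rankAtStalk_eq_finrank_of_free, Pi.natCast_apply, Nat.cast_id,
      Module.finrank_eq_card_basis (KaehlerDifferential.mvPolynomialBasis A (Fin k)), Fintype.card_fin]
  have k2 : Module.rankAtStalk (R := C) (KaehlerDifferential A C) Q = n := by
    rw [← Module.rankAtStalk_eq_of_equiv (KaehlerDifferential.tensorKaehlerEquivOfFormallyEtale A B C),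
      Module.rankAtStalk_baseChange, hn]
  exact k1.symm.trans k2

/-- Localization of a flat module is flat over the base. -/
theorem flat_away {A B : Type u} [CommRing A] [CommRing B] [Algebra A B] (r : B) (M : Type u) [AddCommGroup M]
    [Module A M] [Module B M] [IsScalarTower A B M] [Module.Flat A M] :
    Module.Flat A (LocalizedModule.Away r M) := by
  let S := Submonoid.powers r
  rw [Module.Flat.iff_lTensor_injectiveₛ]
  intro P _ _ Q
  have h : Function.Injective (TensorProduct.AlgebraTensorModule.lTensor B M Q.subtype) := by
    rw [TensorProduct.AlgebraTensorModule.coe_lTensor]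
    exact Module.Flat.lTensor_preserves_injective_linearMap Q.subtype Q.subtype_injective
  have h' := IsLocalizedModule.map_injective S
    (TensorProduct.AlgebraTensorModule.rTensor A Q (LocalizedModule.mkLinearMap S M))
    (TensorProduct.AlgebraTensorModule.rTensor A P (LocalizedModule.mkLinearMap S M)) _ h
  rw [← TensorProduct.AlgebraTensorModule.coe_lTensor (A := B)]
  simpa [IsLocalizedModule.map_lTensor] using h'

/-- Tor dimension along a smooth algebra of relative dimension `n`. -/
theorem torDim_smooth {A B : Type u} [CommRing A] [CommRing B] [Algebra A B] [Algebra.Smooth A B] (n : ℕ)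
    (hn : ∀ q : PrimeSpectrum B, Module.rankAtStalk (R := B) (KaehlerDifferential A B) q = n) (d : ℕ)
    (N : Type u) [AddCommGroup N] [Module A N] [Module B N] [IsScalarTower A B N]
    (h : DRing.HasTorDimLE A d N) : DRing.HasTorDimLE B (d + n) N := by
  haveI : Module.Flat A B := inferInstance
  refine torDim_of_flat_case n (fun M _ _ _ _ hM => ?_) d N h
  obtain ⟨s, hs, hstd⟩ := Algebra.Smooth.exists_span_eq_top_isStandardSmooth A B
  refine torDim_local s hs n M fun r hr => ?_
  let C := Localization.Away r
  rcases subsingleton_or_nontrivial C with hC | hC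
  · haveI : Subsingleton (LocalizedModule.Away r M) := Module.subsingleton C _
    exact torDim_of_flat _ n
  · obtain ⟨g, hg, hget⟩ := etale_mvPolynomial_chart n hn r (hstd r hr)
    let P := MvPolynomial (Fin n) A
    letI : Algebra P C := g.toAlgebra
    haveI : IsScalarTower A P C := IsScalarTower.of_algebraMap_eq' hg.symm
    haveI : Algebra.Etale P C := hget
    haveI := hM
    let S := Submonoid.powers r
    haveI : Module.Flat A (LocalizedModule.Away r M) :=
      flat_away (A := A) r M
    letI : Module P (LocalizedModule.Away r M) := Module.compHom _ g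
    haveI : IsScalarTower P C (LocalizedModule.Away r M) := IsScalarTower.of_algebraMap_smul fun _ _ => rfl
    haveI : IsScalarTower A P (LocalizedModule.Away r M) := IsScalarTower.of_algebraMap_smul fun a x => by
      show g (MvPolynomial.C a) • x = a • x
      rw [show g (MvPolynomial.C a) = algebraMap A C a from RingHom.congr_fun hg a, algebraMap_smul]
    have h1 := torDim_mvPolynomial n 0 (LocalizedModule.Away r M) (torDim_of_flat (A := A) _ 0)
    exact WEField.torDim_ascend (A := P) n _ (torDim_mono _ (by omega) h1)

end Groth.Agent.TorPerLib
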