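import Mathlib
import Groth.Prelude.Def_DRing2
import Groth.Agent.TorPerLib.Ascend

/-!
# Periodicity of `Tor` over a hypersurface

If `R = B / gB` and the `R`-module `X` has finite tor dimension `e` over `B`, then
`Tor^R_q(X, N) ≅ Tor^R_{q-2}(X, N)` for `q ≥ max e 1 + 2`.
-/

set_option autoImplicit false
set_option linter.style.haveILetI false
set_option backward.isDefEq.respectTransparency false
set_option linter.unusedSectionVars false

universe u

open CategoryTheory CategoryTheory.Limits MonoidalCategory
open scoped TensorProduct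
open Groth.Agent.TorLib Groth.Agent.TorVanLib

noncomputable section

namespace Groth.Agent.TorPerLib

/-- Tor dimension of a kernel. -/
theorem torDim_left {B : Type u} [CommRing B] {K F X : Type u} [AddCommGroup K] [Module B K] [AddCommGroup F]
    [Module B F] [AddCommGroup X] [Module B X] (f : K →ₗ[B] F) (g : F →ₗ[B] X) (hf : Function.Injective f)
    (hg : Function.Surjective g) (hex : Function.Exact f g) (d : ℕ) (hF : DRing.HasTorDimLE B d F)
    (hX : DRing.HasTorDimLE B (d + 1) X) : DRing.HasTorDimLE B d K := by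
  intro N _ _ p hp
  let P := projectiveResolution (ModuleCat.of B N)
  have key : ∀ (Y : Type u) [AddCommGroup Y] [Module B Y] (i : ℕ),
      V P i Y ↔ Subsingleton (DRing.Tor B i Y N) := fun Y _ _ i => by
    rw [V_iff, ModuleCat.isZero_iff_subsingleton]
    exact (torIso P (ModuleCat.of B Y) i).toLinearEquiv.toEquiv.subsingleton_congr.symm
  exact (key K p).1 (V_left P hf hg hex p ((key X (p + 1)).2 (hX N (p + 1) (by omega))) ((key F p).2 (hF N p hp)))

variable {B R : Type u} [CommRing B] [CommRing R] [Algebra B R] (g : B)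

theorem algebraMap_g (hker : RingHom.ker (algebraMap B R) = Ideal.span {g}) : algebraMap B R g = 0 :=
  RingHom.mem_ker.1 (hker ▸ Ideal.mem_span_singleton_self g)

/-- A free `R`-module has tor dimension `≤ 1` over `B`. -/
theorem torDim_free (hg : IsSMulRegular B g) (hsurj : Function.Surjective (algebraMap B R))
    (hker : RingHom.ker (algebraMap B R) = Ideal.span {g}) (ι : Type u) :
    DRing.HasTorDimLE B 1 (ι →₀ R) := by
  let m : B →ₗ[B] B := LinearMap.lsmul B B g
  let π : B →ₗ[B] R := Algebra.linearMap B R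
  have hex : Function.Exact m π := fun b => by
    show algebraMap B R b = 0 ↔ b ∈ Set.range m
    rw [← RingHom.mem_ker, hker, Ideal.mem_span_singleton']
    exact ⟨fun ⟨a, ha⟩ => ⟨a, (mul_comm g a).trans ha⟩, fun ⟨a, ha⟩ => ⟨a, (mul_comm a g).trans ha⟩⟩
  refine WEField.torDim_shift_up (ι →₀ B) (ι →₀ B) (ι →₀ R) (Finsupp.mapRange.linearMap m)
    (Finsupp.mapRange.linearMap π) (Finsupp.mapRange_injective _ (map_zero m) hg)
    (Finsupp.mapRange_surjective _ (map_zero π) hsurj) ?_ 0 (torDim_of_flat _ 0)
  intro x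
  constructor
  · intro hx
    have h1 : ∀ i, ∃ b, m b = x i := fun i => (hex (x i)).1 (DFunLike.congr_fun hx i)
    choose b hb using h1
    refine ⟨Finsupp.onFinset x.support b fun i hi => Finsupp.mem_support_iff.2 fun h0 => hi (hg ?_), ?_⟩
    · exact (hb i).trans (h0.trans (smul_zero g).symm)
    · ext i; exact hb i
  · rintro ⟨y, rfl⟩
    ext i
    exact (hex _).2 ⟨y i, rfl⟩

/-- A module of tor dimension `≤ 1` over `B` killed by `g` is its own second syzygy over `B / gB`. -/
theorem period_one (hg : IsSMulRegular B g) (hsurj : Function.Surjective (algebraMap B R))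
    (hker : RingHom.ker (algebraMap B R) = Ideal.span {g})
    (X : Type u) [AddCommGroup X] [Module R X] [Module B X] [IsScalarTower B R X]
    (hX : DRing.HasTorDimLE B 1 X) (N : Type u) [AddCommGroup N] [Module R N] (k : ℕ) :
    Nonempty (DRing.Tor R (k + 3) X N ≃ₗ[R] DRing.Tor R (k + 1) X N) := by
  obtain ⟨K, F, _, _, _, _, _, f, p, hf, hp, hex⟩ := WEField.exists_free_presentation (A := B) X
  haveI : Module.Flat B K := flat_of_zero K (WEField.torDim_shift_down K F X f p hf hp hex 0 hX)
  have hgX : ∀ x : X, g • x = 0 := fun x => by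
    rw [← algebraMap_smul R g x, algebraMap_g g hker, zero_smul]
  have hgF : ∀ x : F, g • x = 0 → x = 0 := fun x h => by
    let b := Module.Free.chooseBasis B F
    apply b.repr.injective
    rw [map_zero]
    ext i
    apply hg
    have := DFunLike.congr_fun (congrArg b.repr h) i
    rw [map_smul, map_zero, Finsupp.smul_apply, Finsupp.zero_apply] at this
    simpa using this
  let Q1 := R ⊗[B] K
  let Q0 := R ⊗[B] F
  haveI : Module.Flat R Q1 := inferInstance
  haveI : Module.Flat R Q0 := inferInstance
  let d : Q1 →ₗ[R] Q0 := f.baseChange R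
  let π : Q0 →ₗ[R] X := LinearMap.liftBaseChange R p
  have hπ : ∀ x : F, π ((1 : R) ⊗ₜ[B] x) = p x := fun x => by
    show (LinearMap.liftBaseChange R p) _ = _
    rw [LinearMap.liftBaseChange_tmul, one_smul]
  have hone : ∀ (M : Type u) [AddCommGroup M] [Module B M] (z : R ⊗[B] M), ∃ m, z = (1 : R) ⊗ₜ[B] m := by
    intro M _ _ z
    obtain ⟨m, rfl⟩ := (TensorProduct.mk_surjective B M R hsurj) z
    exact ⟨m, rfl⟩
  have hzero : ∀ (M : Type u) [AddCommGroup M] [Module B M] (m : M), (1 : R) ⊗ₜ[B] m = 0 → ∃ m', g • m' = m := by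
    intro M _ _ m hm
    have hq : Function.Exact (LinearMap.lsmul B B g) (Algebra.linearMap B R) := fun b => by
      show algebraMap B R b = 0 ↔ b ∈ Set.range (LinearMap.lsmul B B g)
      rw [← RingHom.mem_ker, hker, Ideal.mem_span_singleton']
      exact ⟨fun ⟨a, ha⟩ => ⟨a, (mul_comm g a).trans ha⟩, fun ⟨a, ha⟩ => ⟨a, (mul_comm a g).trans ha⟩⟩
    have h1 : (Algebra.linearMap B R).rTensor M ((1 : B) ⊗ₜ[B] m) = 0 := by
      rw [LinearMap.rTensor_tmul, Algebra.linearMap_apply, map_one]; exact hm
    obtain ⟨z, hz⟩ := (rTensor_exact M hq (hsurj : Function.Surjective (Algebra.linearMap B R)) _).1 h1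
    refine ⟨TensorProduct.lid B M z, ?_⟩
    have h2 := congrArg (TensorProduct.lid B M) hz
    rw [TensorProduct.lid_tmul, one_smul] at h2
    rw [← h2, ← map_smul]
    congr 1
  have hkill : ∀ (M : Type u) [AddCommGroup M] [Module B M] (m : M), (1 : R) ⊗ₜ[B] (g • m) = 0 := by
    intro M _ _ m
    rw [TensorProduct.tmul_smul, TensorProduct.smul_tmul', Algebra.smul_def, algebraMap_g g hker, zero_mul,
      TensorProduct.zero_tmul]
  have hdef : ∀ x : F, ∃ y : K, f y = g • x := fun x => (hex _).1 (by rw [map_smul]; exact hgX _)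
  choose s hs using hdef
  -- the connecting map `F → R ⊗ K`
  let δ : F →ₗ[B] Q1 :=
    { toFun := fun x => (1 : R) ⊗ₜ[B] s x
      map_add' := fun x y => by
        rw [← TensorProduct.tmul_add]
        exact congrArg _ (hf (by rw [map_add, hs, hs, hs, smul_add]))
      map_smul' := fun c x => by
        rw [RingHom.id_apply, ← TensorProduct.tmul_smul]
        exact congrArg _ (hf (by rw [map_smul, hs, hs, smul_comm])) }
  have hδK : ∀ y : K, δ (f y) = 0 := fun y => by
    show (1 : R) ⊗ₜ[B] s (f y) = 0
    rw [show s (f y) = g • y from hf (by rw [hs, map_smul])]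
    exact hkill K y
  have hδ : LinearMap.ker p ≤ LinearMap.ker δ := fun x hx => by
    obtain ⟨y, rfl⟩ := (hex x).1 hx
    exact hδK y
  let ε₀ : X →ₗ[B] Q1 :=
    (Submodule.liftQ (LinearMap.ker p) δ hδ) ∘ₗ (p.quotKerEquivOfSurjective hp).symm.toLinearMap
  have hε₀ : ∀ x : F, ε₀ (p x) = (1 : R) ⊗ₜ[B] s x := fun x => by
    have : (p.quotKerEquivOfSurjective hp).symm (p x) = Submodule.Quotient.mk x := by
      rw [LinearEquiv.symm_apply_eq]; rfl
    show Submodule.liftQ (LinearMap.ker p) δ hδ ((p.quotKerEquivOfSurjective hp).symm (p x)) = _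
    rw [this, Submodule.liftQ_apply]; rfl
  let ε : X →ₗ[R] Q1 :=
    { toFun := ε₀
      map_add' := map_add ε₀
      map_smul' := fun c x => by
        obtain ⟨b, rfl⟩ := hsurj c
        rw [RingHom.id_apply, algebraMap_smul, algebraMap_smul, map_smul] }
  have hεinj : Function.Injective ε := by
    refine (injective_iff_map_eq_zero _).2 fun x hx => ?_
    obtain ⟨x, rfl⟩ := hp x
    change ε₀ (p x) = 0 at hx
    rw [hε₀] at hx
    obtain ⟨y, hy⟩ := hzero K _ hx
    have : x - f y = 0 := hgF _ (by rw [smul_sub, ← hs x, ← map_smul, hy, sub_self])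
    rw [sub_eq_zero.1 this]
    exact hex.apply_apply_eq_zero y
  have hεd : ∀ y : K, d ((1 : R) ⊗ₜ[B] y) = (1 : R) ⊗ₜ[B] f y := fun y =>
    LinearMap.baseChange_tmul f (1 : R) y
  have hexε : Function.Exact ε d.rangeRestrict := by
    intro z
    rw [← LinearMap.mem_ker, LinearMap.ker_rangeRestrict, LinearMap.mem_ker]
    constructor
    · intro hz
      obtain ⟨y, rfl⟩ := hone K z
      rw [hεd] at hz
      obtain ⟨x, hx⟩ := hzero F _ hz
      refine ⟨p x, ?_⟩
      show ε₀ (p x) = _
      rw [hε₀]
      exact congrArg _ (hf (by rw [hs, hx]))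
    · rintro ⟨x, rfl⟩
      obtain ⟨x, rfl⟩ := hp x
      show d (ε₀ (p x)) = 0
      rw [hε₀, hεd, hs]
      exact hkill F x
  have hexπ : Function.Exact (LinearMap.range d).subtype π := by
    intro z
    obtain ⟨x, rfl⟩ := hone F z
    rw [hπ]
    constructor
    · intro hx
      obtain ⟨y, rfl⟩ := (hex x).1 hx
      exact ⟨⟨_, ⟨(1 : R) ⊗ₜ[B] y, hεd y⟩⟩, rfl⟩
    · rintro ⟨⟨z, w, hw⟩, hz⟩
      obtain ⟨y, rfl⟩ := hone K w
      change z = _ at hz
      rw [← hw, hεd] at hz
      have := congrArg π hz
      rw [hπ, hπ, hex.apply_apply_eq_zero] at this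
      exact this.symm
  have hπsurj : Function.Surjective π := fun x => by
    obtain ⟨x, rfl⟩ := hp x
    exact ⟨_, hπ x⟩
  have e1 : DRing.Tor R (k + 3) X N ≃ₗ[R] DRing.Tor R (k + 2) (LinearMap.range d) N :=
    torSuccEquiv (A := R) (K := LinearMap.range d) (F := Q0) (M := X) (LinearMap.range d).subtype π N
      Subtype.val_injective hπsurj hexπ (k + 1)
  have e2 : DRing.Tor R (k + 2) (LinearMap.range d) N ≃ₗ[R] DRing.Tor R (k + 1) X N :=
    torSuccEquiv (A := R) (K := X) (F := Q1) (M := LinearMap.range d) ε d.rangeRestrict N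
      hεinj d.surjective_rangeRestrict hexε k
  exact ⟨e1.trans e2⟩

/-- Periodicity of `Tor` over a hypersurface. -/
theorem period (hg : IsSMulRegular B g) (hsurj : Function.Surjective (algebraMap B R))
    (hker : RingHom.ker (algebraMap B R) = Ideal.span {g}) :
    ∀ (e : ℕ) (X : Type u) [AddCommGroup X] [Module R X] [Module B X] [IsScalarTower B R X],
      DRing.HasTorDimLE B (e + 1) X → ∀ (N : Type u) [AddCommGroup N] [Module R N] (k : ℕ),
        Nonempty (DRing.Tor R (e + k + 3) X N ≃ₗ[R] DRing.Tor R (e + k + 1) X N) := by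
  intro e
  induction e with
  | zero =>
    intro X _ _ _ _ hX N _ _ k
    rw [zero_add]
    exact period_one g hg hsurj hker X hX N k
  | succ e ih =>
    intro X _ _ _ _ hX N _ _ k
    let c : (X →₀ R) →ₗ[R] X := Finsupp.linearCombination R id
    have hc : Function.Surjective c := fun x => ⟨Finsupp.single x 1, by simp [c]⟩
    have hex : Function.Exact (LinearMap.ker c).subtype c := LinearMap.exact_subtype_ker_map c
    have hK : DRing.HasTorDimLE B (e + 1) (LinearMap.ker c) :=
      torDim_left ((LinearMap.ker c).subtype.restrictScalars B) (c.restrictScalars B) Subtype.val_injective hc hex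
        (e + 1) (torDim_mono _ (by omega) (torDim_free g hg hsurj hker X)) hX
    obtain ⟨E⟩ := ih (LinearMap.ker c) hK N k
    have e1 := torSuccEquiv (A := R) (K := LinearMap.ker c) (F := X →₀ R) (M := X) (LinearMap.ker c).subtype c N Subtype.val_injective hc hex (e + k + 2)
    have e2 := torSuccEquiv (A := R) (K := LinearMap.ker c) (F := X →₀ R) (M := X) (LinearMap.ker c).subtype c N Subtype.val_injective hc hex (e + k)
    refine ⟨?_⟩
    rw [show e + 1 + k + 3 = e + k + 2 + 2 by omega, show e + 1 + k + 1 = e + k + 2 by omega]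
    exact e1.trans (E.trans e2.symm)

/-- A module killed by a regular element and flat is zero. -/
theorem subsingleton_of_flat (hg : IsSMulRegular B g)
    (hker : RingHom.ker (algebraMap B R) = Ideal.span {g})
    (X : Type u) [AddCommGroup X] [Module R X] [Module B X] [IsScalarTower B R X] [Module.Flat B X] :
    Subsingleton X := by
  refine subsingleton_of_forall_eq 0 fun x => ?_
  have h : Function.Injective ((LinearMap.lsmul B B g).lTensor X) :=
    Module.Flat.lTensor_preserves_injective_linearMap _ hg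
  have e : ∀ z, TensorProduct.rid B X ((LinearMap.lsmul B B g).lTensor X z) = g • TensorProduct.rid B X z := by
    intro z
    induction z using TensorProduct.induction_on with
    | zero => simp
    | tmul a b => simp [mul_smul]
    | add a b ha hb => simp only [map_add, smul_add, ha, hb]
  refine (TensorProduct.rid B X).symm.injective (h ((TensorProduct.rid B X).injective ?_))
  rw [e, e, LinearEquiv.apply_symm_apply, LinearEquiv.apply_symm_apply]
  show g • x = g • 0
  rw [smul_zero, ← algebraMap_smul R g x, algebraMap_g g hker, zero_smul]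

/-- Periodicity, in the range `q ≥ d + 2`. -/
theorem period_of_le (hg : IsSMulRegular B g) (hsurj : Function.Surjective (algebraMap B R))
    (hker : RingHom.ker (algebraMap B R) = Ideal.span {g}) (d : ℕ)
    (X : Type u) [AddCommGroup X] [Module R X] [Module B X] [IsScalarTower B R X]
    (hX : DRing.HasTorDimLE B d X) (N : Type u) [AddCommGroup N] [Module R N] (q : ℕ) (hq : d + 2 ≤ q) :
    Nonempty (DRing.Tor R q X N ≃ₗ[R] DRing.Tor R (q - 2) X N) := by
  rcases Nat.eq_zero_or_pos d with rfl | hd
  · haveI := flat_of_zero X hX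
    haveI : Subsingleton X := subsingleton_of_flat g hg hker X
    haveI : Module.Flat R X := inferInstance
    obtain ⟨j, rfl⟩ : ∃ j, q = j + 2 := ⟨q - 2, by omega⟩
    haveI : Subsingleton (DRing.Tor R (j + 2) X N) := subsingleton_tor_of_flat X N (j + 1)
    haveI : Subsingleton (DRing.Tor R j X N) := by
      cases j with
      | zero =>
        haveI : Subsingleton (X ⊗[R] N) := inferInstance
        exact (torZeroEquiv X N).injective.subsingleton
      | succ j => exact subsingleton_tor_of_flat X N j
    rw [Nat.add_sub_cancel]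
    exact ⟨LinearEquiv.ofSubsingleton _ _⟩
  · obtain ⟨k, rfl⟩ : ∃ k, q = (d - 1) + k + 3 := ⟨q - (d - 1) - 3, by omega⟩
    obtain ⟨E⟩ := period g hg hsurj hker (d - 1) X (torDim_mono X (by omega) hX) N k
    rw [show (d - 1) + k + 3 - 2 = (d - 1) + k + 1 by omega]
    exact ⟨E⟩

end Groth.Agent.TorPerLib
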