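import Mathlib
import Groth.Prelude.Def_DRing2
import Groth.Agent.TorPerLib.Periodic

/-!
# Derivatives of the equation kill `Tor` over a hypersurface

If `R = B / gB`, `D` is a derivation of `B` and the `R`-module `X` has tor dimension `≤ 1` over `B`, then
multiplication by `D g` on `X` factors through a flat `R`-module.
-/

set_option autoImplicit false
set_option linter.style.haveILetI false
set_option backward.isDefEq.respectTransparency false
set_option linter.unusedSectionVars false

universe u

open CategoryTheory CategoryTheory.Limits MonoidalCategory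
open scoped TensorProduct
open Groth.Agent.TorLib Groth.Agent.TorVanLib

noncomputable section

namespace Groth.Agent.TorPerLib

/-- Injectivity after tensoring, for a presentation of a flat module. -/
theorem rTensor_injective_of_flat {R : Type u} [CommRing R] {K F Q : Type u} [AddCommGroup K] [Module R K]
    [AddCommGroup F] [Module R F] [Module.Flat R F] [AddCommGroup Q] [Module R Q] [Module.Flat R Q]
    (j : K →ₗ[R] F) (c : F →ₗ[R] Q) (hj : Function.Injective j) (hc : Function.Surjective c)
    (hex : Function.Exact j c) (N : Type u) [AddCommGroup N] [Module R N] : Function.Injective (j.rTensor N) := by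
  haveI := subsingleton_tor_of_flat (A := R) Q N 0
  haveI : Subsingleton (LinearMap.ker (j.rTensor N)) :=
    (torOneEquivKer j c N hj hc hex).symm.injective.subsingleton
  rw [← LinearMap.ker_eq_bot]
  exact Submodule.subsingleton_iff_eq_bot.1 inferInstance

/-- The chain-level argument. -/
theorem smul_tor_one_core {R : Type u} [CommRing R] (a : R) {K F X K' F' : Type u} [AddCommGroup K] [Module R K]
    [AddCommGroup F] [Module R F] [Module.Flat R F] [AddCommGroup X] [Module R X]
    [AddCommGroup K'] [Module R K'] [AddCommGroup F'] [Module R F']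
    (j : K →ₗ[R] F) (c : F →ₗ[R] X) (hj : Function.Injective j) (hc : Function.Surjective c)
    (hex : Function.Exact j c) (j' : K' →ₗ[R] F') (N : Type u) [AddCommGroup N] [Module R N]
    (hinj : Function.Injective (j'.rTensor N))
    (v : F →ₗ[R] F') (v' : K →ₗ[R] K') (hv : j' ∘ₗ v' = v ∘ₗ j) (w' : K' →ₗ[R] K) (s : F →ₗ[R] K)
    (hs : w' ∘ₗ v' = s ∘ₗ j + a • LinearMap.id) (z : DRing.Tor R 1 X N) : a • z = 0 := by
  apply (torOneEquivKer j c N hj hc hex).injective
  rw [map_smul, map_zero]
  generalize torOneEquivKer j c N hj hc hex z = e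
  apply Subtype.ext
  have hz : j.rTensor N e.1 = 0 := e.2
  have h1 : v'.rTensor N e.1 = 0 := by
    apply hinj
    rw [map_zero, ← LinearMap.comp_apply, ← LinearMap.rTensor_comp, hv, LinearMap.rTensor_comp,
      LinearMap.comp_apply, hz, map_zero]
  have h2 := LinearMap.congr_fun (congrArg (LinearMap.rTensor N) hs) e.1
  rw [LinearMap.rTensor_add, LinearMap.rTensor_smul, LinearMap.rTensor_id, LinearMap.add_apply,
    LinearMap.rTensor_comp, LinearMap.comp_apply, h1, map_zero, LinearMap.smul_apply, LinearMap.id_apply,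
    LinearMap.rTensor_comp, LinearMap.comp_apply, hz, map_zero, zero_add] at h2
  exact h2.symm

/-- Lifting a factorisation to presentations. -/
theorem exists_chain_maps {R : Type u} [CommRing R] (a : R) {X Q : Type u} [AddCommGroup X] [Module R X]
    [AddCommGroup Q] [Module R Q] (c : (X →₀ R) →ₗ[R] X) (hc : Function.Surjective c)
    (c' : (Q →₀ R) →ₗ[R] Q) (hc' : Function.Surjective c')
    (ε : X →ₗ[R] Q) (ψ : Q →ₗ[R] X) (h : ∀ x, ψ (ε x) = a • x) :
    ∃ (v : (X →₀ R) →ₗ[R] (Q →₀ R)) (v' : LinearMap.ker c →ₗ[R] LinearMap.ker c')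
      (w' : LinearMap.ker c' →ₗ[R] LinearMap.ker c) (s : (X →₀ R) →ₗ[R] LinearMap.ker c),
      (LinearMap.ker c').subtype ∘ₗ v' = v ∘ₗ (LinearMap.ker c).subtype ∧
        w' ∘ₗ v' = s ∘ₗ (LinearMap.ker c).subtype + a • LinearMap.id := by
  obtain ⟨v, hv⟩ := Module.projective_lifting_property c' (ε ∘ₗ c) hc'
  obtain ⟨w, hw⟩ := Module.projective_lifting_property c (ψ ∘ₗ c') hc
  have hv' : ∀ x, c' (v x) = ε (c x) := fun x => LinearMap.congr_fun hv x
  have hw' : ∀ x, c (w x) = ψ (c' x) := fun x => LinearMap.congr_fun hw x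
  have k1 : ∀ x : LinearMap.ker c, (v ∘ₗ (LinearMap.ker c).subtype) x ∈ LinearMap.ker c' := fun x => by
    show c' (v x.1) = 0
    rw [hv', LinearMap.mem_ker.1 x.2, map_zero]
  have k2 : ∀ x : LinearMap.ker c', (w ∘ₗ (LinearMap.ker c').subtype) x ∈ LinearMap.ker c := fun x => by
    show c (w x.1) = 0
    rw [hw', LinearMap.mem_ker.1 x.2, map_zero]
  have k3 : ∀ x : X →₀ R, (w ∘ₗ v - a • (LinearMap.id : (X →₀ R) →ₗ[R] (X →₀ R)) : (X →₀ R) →ₗ[R] (X →₀ R)) x ∈ LinearMap.ker c := fun x => by
    show c (w (v x) - a • x) = 0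
    rw [map_sub, map_smul, hw', hv', h, sub_self]
  let L : (X →₀ R) →ₗ[R] (X →₀ R) := w ∘ₗ v - a • LinearMap.id
  refine ⟨v, (v ∘ₗ (LinearMap.ker c).subtype).codRestrict _ k1,
    (w ∘ₗ (LinearMap.ker c').subtype).codRestrict _ k2,
    L.codRestrict (LinearMap.ker c) k3, rfl, ?_⟩
  exact LinearMap.ext fun x => Subtype.ext (sub_add_cancel (w (v (x : X →₀ R))) (a • (x : X →₀ R))).symm

/-- If `a • id` factors through a flat module, `a` kills `Tor₁`. -/
theorem smul_tor_one_eq_zero {R : Type u} [CommRing R] (a : R) {X Q : Type u} [AddCommGroup X] [Module R X]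
    [AddCommGroup Q] [Module R Q] [Module.Flat R Q] (ε : X →ₗ[R] Q) (ψ : Q →ₗ[R] X)
    (h : ∀ x, ψ (ε x) = a • x) (N : Type u) [AddCommGroup N] [Module R N] (z : DRing.Tor R 1 X N) : a • z = 0 := by
  have hc : Function.Surjective (Finsupp.linearCombination R (id : X → X)) := fun x => ⟨Finsupp.single x 1, by simp⟩
  have hc' : Function.Surjective (Finsupp.linearCombination R (id : Q → Q)) := fun x => ⟨Finsupp.single x 1, by simp⟩
  obtain ⟨v, v', w', s, hv, hs⟩ := exists_chain_maps a _ hc _ hc' ε ψ h
  exact smul_tor_one_core (K := LinearMap.ker (Finsupp.linearCombination R (id : X → X))) (F := X →₀ R) (X := X)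
    (K' := LinearMap.ker (Finsupp.linearCombination R (id : Q → Q))) (F' := Q →₀ R) a
    _ _ Subtype.val_injective hc (LinearMap.exact_subtype_ker_map _) _ N
    (rTensor_injective_of_flat (K := LinearMap.ker (Finsupp.linearCombination R (id : Q → Q))) (F := Q →₀ R) (Q := Q)
      _ _ Subtype.val_injective hc' (LinearMap.exact_subtype_ker_map _) N) v v' hv w' s hs z

variable {B R : Type u} [CommRing B] [CommRing R] [Algebra B R] (g : B)

/-- Multiplication by `D g` factors through a flat module. -/
theorem exists_factor (hg : IsSMulRegular B g) (hsurj : Function.Surjective (algebraMap B R))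
    (hker : RingHom.ker (algebraMap B R) = Ideal.span {g}) (D : B → B) (hD0 : ∀ x y, D (x + y) = D x + D y)
    (hD1 : ∀ x y, D (x * y) = x * D y + y * D x)
    (X : Type u) [AddCommGroup X] [Module R X] [Module B X] [IsScalarTower B R X]
    (hX : DRing.HasTorDimLE B 1 X) :
    ∃ (Q : Type u) (_ : AddCommGroup Q) (_ : Module R Q) (_ : Module.Flat R Q) (ε : X →ₗ[R] Q) (ψ : Q →ₗ[R] X),
      ∀ x, ψ (ε x) = algebraMap B R (D g) • x := by
  obtain ⟨K, F, _, _, _, _, _, f, p, hf, hp, hex⟩ := WEField.exists_free_presentation (A := B) X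
  haveI : Module.Flat B K := flat_of_zero K (WEField.torDim_shift_down K F X f p hf hp hex 0 hX)
  have hgX : ∀ x : X, g • x = 0 := fun x => by
    rw [← algebraMap_smul R g x, algebraMap_g g hker, zero_smul]
  have hgF : ∀ x : F, g • x = 0 → x = 0 := fun x h => by
    let b := Module.Free.chooseBasis B F
    apply b.repr.injective
    rw [map_zero]
    ext i
    apply hg
    have := DFunLike.congr_fun (congrArg b.repr h) i
    rw [map_smul, map_zero, Finsupp.smul_apply, Finsupp.zero_apply] at this
    simpa using this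
  let Q1 := R ⊗[B] K
  let Q0 := R ⊗[B] F
  haveI : Module.Flat R Q1 := inferInstance
  haveI : Module.Flat R Q0 := inferInstance
  let d : Q1 →ₗ[R] Q0 := f.baseChange R
  let π : Q0 →ₗ[R] X := LinearMap.liftBaseChange R p
  have hπ : ∀ x : F, π ((1 : R) ⊗ₜ[B] x) = p x := fun x => by
    show (LinearMap.liftBaseChange R p) _ = _
    rw [LinearMap.liftBaseChange_tmul, one_smul]
  have hone : ∀ (M : Type u) [AddCommGroup M] [Module B M] (z : R ⊗[B] M), ∃ m, z = (1 : R) ⊗ₜ[B] m := by
    intro M _ _ z
    obtain ⟨m, rfl⟩ := (TensorProduct.mk_surjective B M R hsurj) z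
    exact ⟨m, rfl⟩
  have hzero : ∀ (M : Type u) [AddCommGroup M] [Module B M] (m : M), (1 : R) ⊗ₜ[B] m = 0 → ∃ m', g • m' = m := by
    intro M _ _ m hm
    have hq : Function.Exact (LinearMap.lsmul B B g) (Algebra.linearMap B R) := fun b => by
      show algebraMap B R b = 0 ↔ b ∈ Set.range (LinearMap.lsmul B B g)
      rw [← RingHom.mem_ker, hker, Ideal.mem_span_singleton']
      exact ⟨fun ⟨a, ha⟩ => ⟨a, (mul_comm g a).trans ha⟩, fun ⟨a, ha⟩ => ⟨a, (mul_comm a g).trans ha⟩⟩
    have h1 : (Algebra.linearMap B R).rTensor M ((1 : B) ⊗ₜ[B] m) = 0 := by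
      rw [LinearMap.rTensor_tmul, Algebra.linearMap_apply, map_one]; exact hm
    obtain ⟨z, hz⟩ := (rTensor_exact M hq (hsurj : Function.Surjective (Algebra.linearMap B R)) _).1 h1
    refine ⟨TensorProduct.lid B M z, ?_⟩
    have h2 := congrArg (TensorProduct.lid B M) hz
    rw [TensorProduct.lid_tmul, one_smul] at h2
    rw [← h2, ← map_smul]
    congr 1
  have hkill : ∀ (M : Type u) [AddCommGroup M] [Module B M] (m : M), (1 : R) ⊗ₜ[B] (g • m) = 0 := by
    intro M _ _ m
    rw [TensorProduct.tmul_smul, TensorProduct.smul_tmul', Algebra.smul_def, algebraMap_g g hker, zero_mul,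
      TensorProduct.zero_tmul]
  have hdef : ∀ x : F, ∃ y : K, f y = g • x := fun x => (hex _).1 (by rw [map_smul]; exact hgX _)
  choose s hs using hdef
  -- the connecting map `F → R ⊗ K`
  let δ : F →ₗ[B] Q1 :=
    { toFun := fun x => (1 : R) ⊗ₜ[B] s x
      map_add' := fun x y => by
        rw [← TensorProduct.tmul_add]
        exact congrArg _ (hf (by rw [map_add, hs, hs, hs, smul_add]))
      map_smul' := fun c x => by
        rw [RingHom.id_apply, ← TensorProduct.tmul_smul]
        exact congrArg _ (hf (by rw [map_smul, hs, hs, smul_comm])) }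
  have hδK : ∀ y : K, δ (f y) = 0 := fun y => by
    show (1 : R) ⊗ₜ[B] s (f y) = 0
    rw [show s (f y) = g • y from hf (by rw [hs, map_smul])]
    exact hkill K y
  have hδ : LinearMap.ker p ≤ LinearMap.ker δ := fun x hx => by
    obtain ⟨y, rfl⟩ := (hex x).1 hx
    exact hδK y
  let ε₀ : X →ₗ[B] Q1 :=
    (Submodule.liftQ (LinearMap.ker p) δ hδ) ∘ₗ (p.quotKerEquivOfSurjective hp).symm.toLinearMap
  have hε₀ : ∀ x : F, ε₀ (p x) = (1 : R) ⊗ₜ[B] s x := fun x => by
    have : (p.quotKerEquivOfSurjective hp).symm (p x) = Submodule.Quotient.mk x := by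
      rw [LinearEquiv.symm_apply_eq]; rfl
    show Submodule.liftQ (LinearMap.ker p) δ hδ ((p.quotKerEquivOfSurjective hp).symm (p x)) = _
    rw [this, Submodule.liftQ_apply]; rfl
  let ε : X →ₗ[R] Q1 :=
    { toFun := ε₀
      map_add' := map_add ε₀
      map_smul' := fun c x => by
        obtain ⟨b, rfl⟩ := hsurj c
        rw [RingHom.id_apply, algebraMap_smul, algebraMap_smul, map_smul] }
  let b := Module.Free.chooseBasis B F
  have hD00 : D 0 = 0 := by
    have := hD0 0 0
    rw [add_zero] at this
    exact left_eq_add.1 this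
  let nab : F → F := fun x => b.repr.symm (Finsupp.mapRange D hD00 (b.repr x))
  have hnab_add : ∀ x y, nab (x + y) = nab x + nab y := fun x y => by
    show b.repr.symm _ = b.repr.symm _ + b.repr.symm _
    rw [← map_add, map_add b.repr, Finsupp.mapRange_add hD0]
  have hnab : ∀ (c : B) (x : F), nab (c • x) = c • nab x + D c • x := fun c x => by
    apply b.repr.injective
    ext i
    simp only [nab, map_add, map_smul, LinearEquiv.apply_symm_apply, Finsupp.mapRange_apply, Finsupp.add_apply,
      Finsupp.smul_apply, smul_eq_mul, hD1]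
    ring
  let ψ₀ : K →ₗ[B] X :=
    { toFun := fun y => p (nab (f y))
      map_add' := fun x y => by rw [map_add, hnab_add, map_add]
      map_smul' := fun c y => by
        rw [RingHom.id_apply, map_smul, hnab, map_add, map_smul, map_smul, hex.apply_apply_eq_zero, smul_zero,
          add_zero] }
  refine ⟨Q1, inferInstance, inferInstance, inferInstance, ε, LinearMap.liftBaseChange R ψ₀, fun x => ?_⟩
  obtain ⟨x, rfl⟩ := hp x
  show LinearMap.liftBaseChange R ψ₀ (ε₀ (p x)) = _
  rw [hε₀, LinearMap.liftBaseChange_tmul, one_smul]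
  show p (nab (f (s x))) = _
  rw [hs, hnab, map_add, map_smul, map_smul, hgX, zero_add, algebraMap_smul]

/-- `D g` kills the higher `Tor` of a module of tor dimension `≤ 1`. -/
theorem smul_tor_eq_zero_one (hg : IsSMulRegular B g) (hsurj : Function.Surjective (algebraMap B R))
    (hker : RingHom.ker (algebraMap B R) = Ideal.span {g}) (D : B → B) (hD0 : ∀ x y, D (x + y) = D x + D y)
    (hD1 : ∀ x y, D (x * y) = x * D y + y * D x) :
    ∀ (q : ℕ) (X : Type u) [AddCommGroup X] [Module R X] [Module B X] [IsScalarTower B R X],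
      DRing.HasTorDimLE B 1 X → ∀ (N : Type u) [AddCommGroup N] [Module R N] (z : DRing.Tor R (q + 1) X N),
        algebraMap B R (D g) • z = 0 := by
  intro q
  induction q with
  | zero =>
    intro X _ _ _ _ hX N _ _ z
    obtain ⟨Q, _, _, _, ε, ψ, h⟩ := exists_factor g hg hsurj hker D hD0 hD1 X hX
    exact smul_tor_one_eq_zero _ ε ψ h N z
  | succ q ih =>
    intro X _ _ _ _ hX N _ _ z
    let c : (X →₀ R) →ₗ[R] X := Finsupp.linearCombination R id
    have hc : Function.Surjective c := fun x => ⟨Finsupp.single x 1, by simp [c]⟩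
    have hex : Function.Exact (LinearMap.ker c).subtype c := LinearMap.exact_subtype_ker_map c
    have hK : DRing.HasTorDimLE B 1 (LinearMap.ker c) :=
      torDim_left ((LinearMap.ker c).subtype.restrictScalars B) (c.restrictScalars B) Subtype.val_injective hc hex
        1 (torDim_free g hg hsurj hker X) (torDim_mono _ (by omega) hX)
    let E := torSuccEquiv (A := R) (K := LinearMap.ker c) (F := X →₀ R) (M := X)
      (LinearMap.ker c).subtype c N Subtype.val_injective hc hex q
    apply E.injective
    rw [map_smul, map_zero]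
    exact ih (LinearMap.ker c) hK N (E z)

/-- `D g` kills `Tor_q` for `q` at least the tor dimension over `B`. -/
theorem smul_tor_eq_zero (hg : IsSMulRegular B g) (hsurj : Function.Surjective (algebraMap B R))
    (hker : RingHom.ker (algebraMap B R) = Ideal.span {g}) (D : B → B) (hD0 : ∀ x y, D (x + y) = D x + D y)
    (hD1 : ∀ x y, D (x * y) = x * D y + y * D x) :
    ∀ (d : ℕ) (X : Type u) [AddCommGroup X] [Module R X] [Module B X] [IsScalarTower B R X],
      DRing.HasTorDimLE B d X → ∀ (N : Type u) [AddCommGroup N] [Module R N] (q : ℕ), d ≤ q →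
        ∀ z : DRing.Tor R q X N, algebraMap B R (D g) • z = 0 := by
  intro d
  induction d with
  | zero =>
    intro X _ _ _ _ hX N _ _ q _ z
    haveI := flat_of_zero X hX
    haveI : Subsingleton X := subsingleton_of_flat g hg hker X
    haveI : Subsingleton (DRing.Tor R q X N) := by
      cases q with
      | zero =>
        haveI : Subsingleton (X ⊗[R] N) := inferInstance
        exact (torZeroEquiv X N).injective.subsingleton
      | succ j =>
        haveI : Module.Flat R X := inferInstance
        exact subsingleton_tor_of_flat X N j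
    exact Subsingleton.elim _ _
  | succ d ih =>
    intro X _ _ _ _ hX N _ _ q hq z
    rcases Nat.eq_zero_or_pos d with rfl | hd
    · obtain ⟨j, rfl⟩ : ∃ j, q = j + 1 := ⟨q - 1, by omega⟩
      exact smul_tor_eq_zero_one g hg hsurj hker D hD0 hD1 j X hX N z
    · obtain ⟨j, rfl⟩ : ∃ j, q = j + 2 := ⟨q - 2, by omega⟩
      let c : (X →₀ R) →ₗ[R] X := Finsupp.linearCombination R id
      have hc : Function.Surjective c := fun x => ⟨Finsupp.single x 1, by simp [c]⟩
      have hex : Function.Exact (LinearMap.ker c).subtype c := LinearMap.exact_subtype_ker_map c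
      have hK : DRing.HasTorDimLE B d (LinearMap.ker c) :=
        torDim_left ((LinearMap.ker c).subtype.restrictScalars B) (c.restrictScalars B) Subtype.val_injective hc hex
          d (torDim_mono _ hd (torDim_free g hg hsurj hker X)) hX
      let E := torSuccEquiv (A := R) (K := LinearMap.ker c) (F := X →₀ R) (M := X)
        (LinearMap.ker c).subtype c N Subtype.val_injective hc hex j
      apply E.injective
      rw [map_smul, map_zero]
      exact ih (LinearMap.ker c) hK N (j + 1) (by omega) (E z)

end Groth.Agent.TorPerLib
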